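import Cfsg.Prelude.Def_LieTwisted
set_option linter.all false

-- part: ChevalleyStructure/Ree3/G2F3
section
/-!
Type G2 over `ZMod 3`: kernel-computable application of words in root elements to vectors.
-/

set_option autoImplicit false

namespace Cfsg.Agent.ChevalleyStructure.Ree3.G2F3

open Matrix Cfsg.Lie

/-- rows of the matrices `x_r(1)` and `x_r(2)` of type G2 over `ZMod 3` -/
def tab0_1 : List (List ℕ) := [[1, 0, 0, 0, 0, 0, 0, 0, 0, 0, 0, 0, 0, 2],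
  [0, 1, 0, 0, 0, 0, 0, 0, 0, 0, 0, 0, 0, 1],
  [0, 1, 1, 0, 0, 0, 0, 0, 0, 0, 0, 0, 0, 2],
  [0, 0, 0, 1, 0, 0, 0, 0, 1, 0, 0, 0, 0, 0],
  [0, 0, 0, 0, 1, 0, 0, 0, 0, 0, 1, 0, 0, 0],
  [0, 0, 0, 0, 0, 1, 0, 0, 0, 0, 0, 2, 0, 0],
  [0, 0, 0, 0, 0, 0, 1, 0, 0, 0, 0, 0, 0, 0],
  [0, 0, 0, 0, 0, 0, 0, 1, 0, 0, 0, 0, 2, 0],
  [0, 0, 0, 0, 0, 0, 0, 0, 1, 0, 0, 0, 0, 0],
  [0, 0, 0, 0, 0, 0, 0, 0, 0, 1, 0, 0, 0, 0],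
  [0, 0, 0, 0, 0, 0, 0, 0, 0, 0, 1, 0, 0, 0],
  [0, 0, 0, 0, 0, 0, 0, 0, 0, 0, 0, 1, 0, 0],
  [0, 0, 0, 0, 0, 0, 0, 0, 0, 0, 0, 0, 1, 0],
  [0, 0, 0, 0, 0, 0, 0, 0, 0, 0, 0, 0, 0, 1]]
def tab0_2 : List (List ℕ) := [[1, 0, 0, 0, 0, 0, 0, 0, 0, 0, 0, 0, 0, 1],
  [0, 1, 0, 0, 0, 0, 0, 0, 0, 0, 0, 0, 0, 2],
  [0, 2, 1, 0, 0, 0, 0, 0, 0, 0, 0, 0, 0, 2],
  [0, 0, 0, 1, 0, 0, 0, 0, 2, 0, 0, 0, 0, 0],
  [0, 0, 0, 0, 1, 0, 0, 0, 0, 0, 2, 0, 0, 0],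
  [0, 0, 0, 0, 0, 1, 0, 0, 0, 0, 0, 1, 0, 0],
  [0, 0, 0, 0, 0, 0, 1, 0, 0, 0, 0, 0, 0, 0],
  [0, 0, 0, 0, 0, 0, 0, 1, 0, 0, 0, 0, 1, 0],
  [0, 0, 0, 0, 0, 0, 0, 0, 1, 0, 0, 0, 0, 0],
  [0, 0, 0, 0, 0, 0, 0, 0, 0, 1, 0, 0, 0, 0],
  [0, 0, 0, 0, 0, 0, 0, 0, 0, 0, 1, 0, 0, 0],
  [0, 0, 0, 0, 0, 0, 0, 0, 0, 0, 0, 1, 0, 0],
  [0, 0, 0, 0, 0, 0, 0, 0, 0, 0, 0, 0, 1, 0],
  [0, 0, 0, 0, 0, 0, 0, 0, 0, 0, 0, 0, 0, 1]]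
def tab1_1 : List (List ℕ) := [[1, 0, 0, 0, 0, 0, 0, 0, 0, 0, 0, 0, 2, 0],
  [0, 1, 0, 0, 0, 0, 0, 0, 0, 0, 0, 0, 2, 0],
  [0, 0, 1, 0, 0, 0, 0, 1, 0, 0, 0, 0, 0, 0],
  [0, 2, 0, 1, 0, 0, 0, 0, 0, 0, 0, 0, 2, 0],
  [0, 0, 0, 0, 1, 0, 0, 0, 0, 1, 0, 0, 0, 0],
  [0, 0, 0, 0, 0, 1, 0, 0, 0, 0, 0, 0, 0, 0],
  [0, 0, 0, 0, 0, 0, 1, 0, 0, 0, 0, 2, 0, 0],
  [0, 0, 0, 0, 0, 0, 0, 1, 0, 0, 0, 0, 0, 0],
  [0, 0, 0, 0, 0, 0, 0, 0, 1, 0, 0, 0, 0, 2],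
  [0, 0, 0, 0, 0, 0, 0, 0, 0, 1, 0, 0, 0, 0],
  [0, 0, 0, 0, 0, 0, 0, 0, 0, 0, 1, 0, 0, 0],
  [0, 0, 0, 0, 0, 0, 0, 0, 0, 0, 0, 1, 0, 0],
  [0, 0, 0, 0, 0, 0, 0, 0, 0, 0, 0, 0, 1, 0],
  [0, 0, 0, 0, 0, 0, 0, 0, 0, 0, 0, 0, 0, 1]]
def tab1_2 : List (List ℕ) := [[1, 0, 0, 0, 0, 0, 0, 0, 0, 0, 0, 0, 1, 0],
  [0, 1, 0, 0, 0, 0, 0, 0, 0, 0, 0, 0, 1, 0],
  [0, 0, 1, 0, 0, 0, 0, 2, 0, 0, 0, 0, 0, 0],
  [0, 1, 0, 1, 0, 0, 0, 0, 0, 0, 0, 0, 2, 0],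
  [0, 0, 0, 0, 1, 0, 0, 0, 0, 2, 0, 0, 0, 0],
  [0, 0, 0, 0, 0, 1, 0, 0, 0, 0, 0, 0, 0, 0],
  [0, 0, 0, 0, 0, 0, 1, 0, 0, 0, 0, 1, 0, 0],
  [0, 0, 0, 0, 0, 0, 0, 1, 0, 0, 0, 0, 0, 0],
  [0, 0, 0, 0, 0, 0, 0, 0, 1, 0, 0, 0, 0, 1],
  [0, 0, 0, 0, 0, 0, 0, 0, 0, 1, 0, 0, 0, 0],
  [0, 0, 0, 0, 0, 0, 0, 0, 0, 0, 1, 0, 0, 0],
  [0, 0, 0, 0, 0, 0, 0, 0, 0, 0, 0, 1, 0, 0],
  [0, 0, 0, 0, 0, 0, 0, 0, 0, 0, 0, 0, 1, 0],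
  [0, 0, 0, 0, 0, 0, 0, 0, 0, 0, 0, 0, 0, 1]]
def tab2_1 : List (List ℕ) := [[1, 0, 0, 0, 0, 0, 0, 0, 0, 0, 0, 1, 0, 0],
  [0, 1, 0, 0, 0, 0, 0, 0, 0, 0, 0, 0, 0, 0],
  [0, 0, 1, 0, 0, 0, 0, 0, 0, 0, 0, 0, 1, 0],
  [0, 0, 0, 1, 0, 0, 0, 0, 0, 0, 0, 0, 0, 2],
  [1, 0, 0, 0, 1, 0, 0, 0, 0, 0, 0, 2, 0, 0],
  [0, 0, 0, 0, 0, 1, 0, 0, 0, 1, 0, 0, 1, 0],
  [0, 0, 0, 0, 0, 0, 1, 0, 0, 0, 2, 0, 0, 2],
  [0, 0, 0, 0, 0, 0, 0, 1, 0, 0, 0, 0, 0, 0],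
  [0, 0, 0, 0, 0, 0, 0, 0, 1, 0, 0, 0, 0, 0],
  [0, 0, 0, 0, 0, 0, 0, 0, 0, 1, 0, 0, 2, 0],
  [0, 0, 0, 0, 0, 0, 0, 0, 0, 0, 1, 0, 0, 2],
  [0, 0, 0, 0, 0, 0, 0, 0, 0, 0, 0, 1, 0, 0],
  [0, 0, 0, 0, 0, 0, 0, 0, 0, 0, 0, 0, 1, 0],
  [0, 0, 0, 0, 0, 0, 0, 0, 0, 0, 0, 0, 0, 1]]
def tab2_2 : List (List ℕ) := [[1, 0, 0, 0, 0, 0, 0, 0, 0, 0, 0, 2, 0, 0],
  [0, 1, 0, 0, 0, 0, 0, 0, 0, 0, 0, 0, 0, 0],
  [0, 0, 1, 0, 0, 0, 0, 0, 0, 0, 0, 0, 2, 0],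
  [0, 0, 0, 1, 0, 0, 0, 0, 0, 0, 0, 0, 0, 1],
  [2, 0, 0, 0, 1, 0, 0, 0, 0, 0, 0, 2, 0, 0],
  [0, 0, 0, 0, 0, 1, 0, 0, 0, 2, 0, 0, 1, 0],
  [0, 0, 0, 0, 0, 0, 1, 0, 0, 0, 1, 0, 0, 2],
  [0, 0, 0, 0, 0, 0, 0, 1, 0, 0, 0, 0, 0, 0],
  [0, 0, 0, 0, 0, 0, 0, 0, 1, 0, 0, 0, 0, 0],
  [0, 0, 0, 0, 0, 0, 0, 0, 0, 1, 0, 0, 1, 0],
  [0, 0, 0, 0, 0, 0, 0, 0, 0, 0, 1, 0, 0, 1],
  [0, 0, 0, 0, 0, 0, 0, 0, 0, 0, 0, 1, 0, 0],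
  [0, 0, 0, 0, 0, 0, 0, 0, 0, 0, 0, 0, 1, 0],
  [0, 0, 0, 0, 0, 0, 0, 0, 0, 0, 0, 0, 0, 1]]
def tab3_1 : List (List ℕ) := [[1, 0, 0, 0, 0, 0, 0, 0, 0, 0, 2, 0, 0, 0],
  [0, 1, 0, 0, 0, 0, 0, 0, 0, 0, 0, 0, 0, 0],
  [0, 0, 1, 0, 0, 0, 0, 0, 1, 0, 0, 0, 0, 0],
  [0, 0, 0, 1, 0, 0, 0, 0, 0, 0, 0, 0, 0, 0],
  [0, 0, 0, 0, 1, 0, 1, 0, 2, 0, 0, 0, 0, 0],
  [2, 1, 0, 0, 0, 1, 0, 0, 0, 0, 2, 0, 0, 0],
  [0, 0, 0, 0, 0, 0, 1, 0, 1, 0, 0, 0, 0, 0],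
  [0, 0, 0, 0, 0, 0, 0, 1, 0, 0, 0, 0, 0, 2],
  [0, 0, 0, 0, 0, 0, 0, 0, 1, 0, 0, 0, 0, 0],
  [0, 0, 0, 0, 0, 0, 0, 0, 0, 1, 0, 2, 0, 1],
  [0, 0, 0, 0, 0, 0, 0, 0, 0, 0, 1, 0, 0, 0],
  [0, 0, 0, 0, 0, 0, 0, 0, 0, 0, 0, 1, 0, 1],
  [0, 0, 0, 0, 0, 0, 0, 0, 0, 0, 0, 0, 1, 0],
  [0, 0, 0, 0, 0, 0, 0, 0, 0, 0, 0, 0, 0, 1]]
def tab3_2 : List (List ℕ) := [[1, 0, 0, 0, 0, 0, 0, 0, 0, 0, 1, 0, 0, 0],
  [0, 1, 0, 0, 0, 0, 0, 0, 0, 0, 0, 0, 0, 0],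
  [0, 0, 1, 0, 0, 0, 0, 0, 2, 0, 0, 0, 0, 0],
  [0, 0, 0, 1, 0, 0, 0, 0, 0, 0, 0, 0, 0, 0],
  [0, 0, 0, 0, 1, 0, 2, 0, 2, 0, 0, 0, 0, 0],
  [1, 2, 0, 0, 0, 1, 0, 0, 0, 0, 2, 0, 0, 0],
  [0, 0, 0, 0, 0, 0, 1, 0, 2, 0, 0, 0, 0, 0],
  [0, 0, 0, 0, 0, 0, 0, 1, 0, 0, 0, 0, 0, 1],
  [0, 0, 0, 0, 0, 0, 0, 0, 1, 0, 0, 0, 0, 0],
  [0, 0, 0, 0, 0, 0, 0, 0, 0, 1, 0, 1, 0, 1],
  [0, 0, 0, 0, 0, 0, 0, 0, 0, 0, 1, 0, 0, 0],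
  [0, 0, 0, 0, 0, 0, 0, 0, 0, 0, 0, 1, 0, 2],
  [0, 0, 0, 0, 0, 0, 0, 0, 0, 0, 0, 0, 1, 0],
  [0, 0, 0, 0, 0, 0, 0, 0, 0, 0, 0, 0, 0, 1]]
def tab4_1 : List (List ℕ) := [[1, 0, 0, 0, 0, 0, 0, 0, 0, 2, 0, 0, 0, 0],
  [0, 1, 0, 0, 0, 0, 0, 0, 0, 0, 0, 0, 0, 0],
  [0, 0, 1, 0, 0, 0, 0, 0, 0, 0, 0, 0, 0, 0],
  [0, 0, 0, 1, 0, 0, 0, 2, 0, 0, 0, 0, 0, 0],
  [0, 0, 0, 0, 1, 2, 0, 1, 0, 0, 0, 0, 0, 0],
  [0, 0, 0, 0, 0, 1, 0, 1, 0, 0, 0, 0, 0, 0],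
  [2, 2, 0, 0, 0, 0, 1, 0, 0, 2, 0, 0, 0, 0],
  [0, 0, 0, 0, 0, 0, 0, 1, 0, 0, 0, 0, 0, 0],
  [0, 0, 0, 0, 0, 0, 0, 0, 1, 0, 0, 0, 1, 0],
  [0, 0, 0, 0, 0, 0, 0, 0, 0, 1, 0, 0, 0, 0],
  [0, 0, 0, 0, 0, 0, 0, 0, 0, 0, 1, 1, 2, 0],
  [0, 0, 0, 0, 0, 0, 0, 0, 0, 0, 0, 1, 1, 0],
  [0, 0, 0, 0, 0, 0, 0, 0, 0, 0, 0, 0, 1, 0],
  [0, 0, 0, 0, 0, 0, 0, 0, 0, 0, 0, 0, 0, 1]]
def tab4_2 : List (List ℕ) := [[1, 0, 0, 0, 0, 0, 0, 0, 0, 1, 0, 0, 0, 0],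
  [0, 1, 0, 0, 0, 0, 0, 0, 0, 0, 0, 0, 0, 0],
  [0, 0, 1, 0, 0, 0, 0, 0, 0, 0, 0, 0, 0, 0],
  [0, 0, 0, 1, 0, 0, 0, 1, 0, 0, 0, 0, 0, 0],
  [0, 0, 0, 0, 1, 1, 0, 1, 0, 0, 0, 0, 0, 0],
  [0, 0, 0, 0, 0, 1, 0, 2, 0, 0, 0, 0, 0, 0],
  [1, 1, 0, 0, 0, 0, 1, 0, 0, 2, 0, 0, 0, 0],
  [0, 0, 0, 0, 0, 0, 0, 1, 0, 0, 0, 0, 0, 0],
  [0, 0, 0, 0, 0, 0, 0, 0, 1, 0, 0, 0, 2, 0],
  [0, 0, 0, 0, 0, 0, 0, 0, 0, 1, 0, 0, 0, 0],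
  [0, 0, 0, 0, 0, 0, 0, 0, 0, 0, 1, 2, 2, 0],
  [0, 0, 0, 0, 0, 0, 0, 0, 0, 0, 0, 1, 2, 0],
  [0, 0, 0, 0, 0, 0, 0, 0, 0, 0, 0, 0, 1, 0],
  [0, 0, 0, 0, 0, 0, 0, 0, 0, 0, 0, 0, 0, 1]]
def tab5_1 : List (List ℕ) := [[1, 0, 0, 0, 0, 0, 0, 0, 0, 0, 0, 0, 0, 0],
  [0, 1, 0, 0, 0, 0, 0, 0, 2, 0, 0, 0, 0, 0],
  [0, 0, 1, 2, 0, 0, 0, 0, 0, 0, 0, 0, 0, 0],
  [0, 0, 0, 1, 0, 0, 0, 0, 0, 0, 0, 0, 0, 0],
  [0, 0, 0, 0, 1, 0, 0, 0, 0, 0, 0, 0, 0, 0],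
  [0, 0, 0, 0, 0, 1, 2, 0, 0, 0, 0, 0, 0, 0],
  [0, 0, 0, 0, 0, 0, 1, 0, 0, 0, 0, 0, 0, 0],
  [0, 2, 0, 0, 0, 0, 0, 1, 2, 0, 0, 0, 0, 0],
  [0, 0, 0, 0, 0, 0, 0, 0, 1, 0, 0, 0, 0, 0],
  [0, 0, 0, 0, 0, 0, 0, 0, 0, 1, 1, 0, 0, 0],
  [0, 0, 0, 0, 0, 0, 0, 0, 0, 0, 1, 0, 0, 0],
  [0, 0, 0, 0, 0, 0, 0, 0, 0, 0, 0, 1, 0, 0],
  [0, 0, 0, 0, 0, 0, 0, 0, 0, 0, 0, 0, 1, 1],
  [0, 0, 0, 0, 0, 0, 0, 0, 0, 0, 0, 0, 0, 1]]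
def tab5_2 : List (List ℕ) := [[1, 0, 0, 0, 0, 0, 0, 0, 0, 0, 0, 0, 0, 0],
  [0, 1, 0, 0, 0, 0, 0, 0, 1, 0, 0, 0, 0, 0],
  [0, 0, 1, 1, 0, 0, 0, 0, 0, 0, 0, 0, 0, 0],
  [0, 0, 0, 1, 0, 0, 0, 0, 0, 0, 0, 0, 0, 0],
  [0, 0, 0, 0, 1, 0, 0, 0, 0, 0, 0, 0, 0, 0],
  [0, 0, 0, 0, 0, 1, 1, 0, 0, 0, 0, 0, 0, 0],
  [0, 0, 0, 0, 0, 0, 1, 0, 0, 0, 0, 0, 0, 0],
  [0, 1, 0, 0, 0, 0, 0, 1, 2, 0, 0, 0, 0, 0],
  [0, 0, 0, 0, 0, 0, 0, 0, 1, 0, 0, 0, 0, 0],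
  [0, 0, 0, 0, 0, 0, 0, 0, 0, 1, 2, 0, 0, 0],
  [0, 0, 0, 0, 0, 0, 0, 0, 0, 0, 1, 0, 0, 0],
  [0, 0, 0, 0, 0, 0, 0, 0, 0, 0, 0, 1, 0, 0],
  [0, 0, 0, 0, 0, 0, 0, 0, 0, 0, 0, 0, 1, 2],
  [0, 0, 0, 0, 0, 0, 0, 0, 0, 0, 0, 0, 0, 1]]
def tab6_1 : List (List ℕ) := [[1, 0, 0, 0, 0, 0, 0, 0, 0, 0, 0, 0, 0, 0],
  [0, 1, 0, 0, 0, 0, 0, 1, 0, 0, 0, 0, 0, 0],
  [0, 0, 1, 0, 0, 0, 0, 0, 0, 0, 0, 0, 0, 0],
  [0, 0, 2, 1, 0, 0, 0, 0, 0, 0, 0, 0, 0, 0],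
  [0, 0, 0, 0, 1, 0, 0, 0, 0, 0, 0, 0, 0, 0],
  [0, 0, 0, 0, 0, 1, 0, 0, 0, 0, 0, 0, 0, 0],
  [0, 0, 0, 0, 0, 2, 1, 0, 0, 0, 0, 0, 0, 0],
  [0, 0, 0, 0, 0, 0, 0, 1, 0, 0, 0, 0, 0, 0],
  [0, 1, 0, 0, 0, 0, 0, 2, 1, 0, 0, 0, 0, 0],
  [0, 0, 0, 0, 0, 0, 0, 0, 0, 1, 0, 0, 0, 0],
  [0, 0, 0, 0, 0, 0, 0, 0, 0, 1, 1, 0, 0, 0],
  [0, 0, 0, 0, 0, 0, 0, 0, 0, 0, 0, 1, 0, 0],
  [0, 0, 0, 0, 0, 0, 0, 0, 0, 0, 0, 0, 1, 0],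
  [0, 0, 0, 0, 0, 0, 0, 0, 0, 0, 0, 0, 1, 1]]
def tab6_2 : List (List ℕ) := [[1, 0, 0, 0, 0, 0, 0, 0, 0, 0, 0, 0, 0, 0],
  [0, 1, 0, 0, 0, 0, 0, 2, 0, 0, 0, 0, 0, 0],
  [0, 0, 1, 0, 0, 0, 0, 0, 0, 0, 0, 0, 0, 0],
  [0, 0, 1, 1, 0, 0, 0, 0, 0, 0, 0, 0, 0, 0],
  [0, 0, 0, 0, 1, 0, 0, 0, 0, 0, 0, 0, 0, 0],
  [0, 0, 0, 0, 0, 1, 0, 0, 0, 0, 0, 0, 0, 0],
  [0, 0, 0, 0, 0, 1, 1, 0, 0, 0, 0, 0, 0, 0],
  [0, 0, 0, 0, 0, 0, 0, 1, 0, 0, 0, 0, 0, 0],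
  [0, 2, 0, 0, 0, 0, 0, 2, 1, 0, 0, 0, 0, 0],
  [0, 0, 0, 0, 0, 0, 0, 0, 0, 1, 0, 0, 0, 0],
  [0, 0, 0, 0, 0, 0, 0, 0, 0, 2, 1, 0, 0, 0],
  [0, 0, 0, 0, 0, 0, 0, 0, 0, 0, 0, 1, 0, 0],
  [0, 0, 0, 0, 0, 0, 0, 0, 0, 0, 0, 0, 1, 0],
  [0, 0, 0, 0, 0, 0, 0, 0, 0, 0, 0, 0, 2, 1]]
def tab7_1 : List (List ℕ) := [[1, 0, 0, 0, 0, 0, 1, 0, 0, 0, 0, 0, 0, 0],
  [0, 1, 0, 0, 0, 0, 0, 0, 0, 0, 0, 0, 0, 0],
  [0, 0, 1, 0, 0, 0, 0, 0, 0, 0, 0, 0, 0, 0],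
  [0, 0, 0, 1, 0, 0, 0, 0, 0, 0, 0, 0, 0, 0],
  [0, 0, 0, 2, 1, 0, 0, 0, 0, 0, 0, 0, 0, 0],
  [0, 0, 0, 2, 2, 1, 0, 0, 0, 0, 0, 0, 0, 0],
  [0, 0, 0, 0, 0, 0, 1, 0, 0, 0, 0, 0, 0, 0],
  [0, 0, 0, 2, 0, 0, 0, 1, 0, 0, 0, 0, 0, 0],
  [0, 0, 0, 0, 0, 0, 0, 0, 1, 0, 0, 0, 0, 0],
  [1, 1, 0, 0, 0, 0, 2, 0, 0, 1, 0, 0, 0, 0],
  [0, 0, 0, 0, 0, 0, 0, 0, 2, 0, 1, 0, 0, 0],
  [0, 0, 0, 0, 0, 0, 0, 0, 1, 0, 1, 1, 0, 0],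
  [0, 0, 0, 0, 0, 0, 0, 0, 1, 0, 0, 0, 1, 0],
  [0, 0, 0, 0, 0, 0, 0, 0, 0, 0, 0, 0, 0, 1]]
def tab7_2 : List (List ℕ) := [[1, 0, 0, 0, 0, 0, 2, 0, 0, 0, 0, 0, 0, 0],
  [0, 1, 0, 0, 0, 0, 0, 0, 0, 0, 0, 0, 0, 0],
  [0, 0, 1, 0, 0, 0, 0, 0, 0, 0, 0, 0, 0, 0],
  [0, 0, 0, 1, 0, 0, 0, 0, 0, 0, 0, 0, 0, 0],
  [0, 0, 0, 1, 1, 0, 0, 0, 0, 0, 0, 0, 0, 0],
  [0, 0, 0, 2, 1, 1, 0, 0, 0, 0, 0, 0, 0, 0],
  [0, 0, 0, 0, 0, 0, 1, 0, 0, 0, 0, 0, 0, 0],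
  [0, 0, 0, 1, 0, 0, 0, 1, 0, 0, 0, 0, 0, 0],
  [0, 0, 0, 0, 0, 0, 0, 0, 1, 0, 0, 0, 0, 0],
  [2, 2, 0, 0, 0, 0, 2, 0, 0, 1, 0, 0, 0, 0],
  [0, 0, 0, 0, 0, 0, 0, 0, 1, 0, 1, 0, 0, 0],
  [0, 0, 0, 0, 0, 0, 0, 0, 1, 0, 2, 1, 0, 0],
  [0, 0, 0, 0, 0, 0, 0, 0, 2, 0, 0, 0, 1, 0],
  [0, 0, 0, 0, 0, 0, 0, 0, 0, 0, 0, 0, 0, 1]]
def tab8_1 : List (List ℕ) := [[1, 0, 0, 0, 0, 1, 0, 0, 0, 0, 0, 0, 0, 0],
  [0, 1, 0, 0, 0, 0, 0, 0, 0, 0, 0, 0, 0, 0],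
  [0, 0, 1, 0, 0, 0, 0, 0, 0, 0, 0, 0, 0, 0],
  [0, 0, 0, 1, 0, 0, 0, 0, 0, 0, 0, 0, 0, 0],
  [0, 0, 2, 0, 1, 0, 0, 0, 0, 0, 0, 0, 0, 0],
  [0, 0, 0, 0, 0, 1, 0, 0, 0, 0, 0, 0, 0, 0],
  [0, 0, 1, 0, 1, 0, 1, 0, 0, 0, 0, 0, 0, 0],
  [0, 0, 0, 0, 0, 0, 0, 1, 0, 0, 0, 0, 0, 0],
  [0, 0, 1, 0, 0, 0, 0, 0, 1, 0, 0, 0, 0, 0],
  [0, 0, 0, 0, 0, 0, 0, 2, 0, 1, 0, 0, 0, 0],
  [1, 2, 0, 0, 0, 2, 0, 0, 0, 0, 1, 0, 0, 0],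
  [0, 0, 0, 0, 0, 0, 0, 2, 0, 2, 0, 1, 0, 0],
  [0, 0, 0, 0, 0, 0, 0, 0, 0, 0, 0, 0, 1, 0],
  [0, 0, 0, 0, 0, 0, 0, 2, 0, 0, 0, 0, 0, 1]]
def tab8_2 : List (List ℕ) := [[1, 0, 0, 0, 0, 2, 0, 0, 0, 0, 0, 0, 0, 0],
  [0, 1, 0, 0, 0, 0, 0, 0, 0, 0, 0, 0, 0, 0],
  [0, 0, 1, 0, 0, 0, 0, 0, 0, 0, 0, 0, 0, 0],
  [0, 0, 0, 1, 0, 0, 0, 0, 0, 0, 0, 0, 0, 0],
  [0, 0, 1, 0, 1, 0, 0, 0, 0, 0, 0, 0, 0, 0],
  [0, 0, 0, 0, 0, 1, 0, 0, 0, 0, 0, 0, 0, 0],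
  [0, 0, 1, 0, 2, 0, 1, 0, 0, 0, 0, 0, 0, 0],
  [0, 0, 0, 0, 0, 0, 0, 1, 0, 0, 0, 0, 0, 0],
  [0, 0, 2, 0, 0, 0, 0, 0, 1, 0, 0, 0, 0, 0],
  [0, 0, 0, 0, 0, 0, 0, 1, 0, 1, 0, 0, 0, 0],
  [2, 1, 0, 0, 0, 2, 0, 0, 0, 0, 1, 0, 0, 0],
  [0, 0, 0, 0, 0, 0, 0, 2, 0, 1, 0, 1, 0, 0],
  [0, 0, 0, 0, 0, 0, 0, 0, 0, 0, 0, 0, 1, 0],
  [0, 0, 0, 0, 0, 0, 0, 1, 0, 0, 0, 0, 0, 1]]
def tab9_1 : List (List ℕ) := [[1, 0, 0, 0, 2, 0, 0, 0, 0, 0, 0, 0, 0, 0],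
  [0, 1, 0, 0, 0, 0, 0, 0, 0, 0, 0, 0, 0, 0],
  [0, 0, 1, 0, 0, 0, 0, 0, 0, 0, 0, 0, 0, 0],
  [0, 0, 0, 1, 0, 0, 0, 0, 0, 0, 0, 0, 0, 0],
  [0, 0, 0, 0, 1, 0, 0, 0, 0, 0, 0, 0, 0, 0],
  [0, 0, 1, 0, 0, 1, 0, 0, 0, 0, 0, 0, 0, 0],
  [0, 0, 0, 1, 0, 0, 1, 0, 0, 0, 0, 0, 0, 0],
  [0, 0, 0, 0, 0, 0, 0, 1, 0, 0, 0, 0, 0, 0],
  [0, 0, 0, 0, 0, 0, 0, 0, 1, 0, 0, 0, 0, 0],
  [0, 0, 2, 0, 0, 1, 0, 0, 0, 1, 0, 0, 0, 0],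
  [0, 0, 0, 1, 0, 0, 2, 0, 0, 0, 1, 0, 0, 0],
  [2, 0, 0, 0, 2, 0, 0, 0, 0, 0, 0, 1, 0, 0],
  [0, 0, 1, 0, 0, 0, 0, 0, 0, 0, 0, 0, 1, 0],
  [0, 0, 0, 2, 0, 0, 0, 0, 0, 0, 0, 0, 0, 1]]
def tab9_2 : List (List ℕ) := [[1, 0, 0, 0, 1, 0, 0, 0, 0, 0, 0, 0, 0, 0],
  [0, 1, 0, 0, 0, 0, 0, 0, 0, 0, 0, 0, 0, 0],
  [0, 0, 1, 0, 0, 0, 0, 0, 0, 0, 0, 0, 0, 0],
  [0, 0, 0, 1, 0, 0, 0, 0, 0, 0, 0, 0, 0, 0],
  [0, 0, 0, 0, 1, 0, 0, 0, 0, 0, 0, 0, 0, 0],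
  [0, 0, 2, 0, 0, 1, 0, 0, 0, 0, 0, 0, 0, 0],
  [0, 0, 0, 2, 0, 0, 1, 0, 0, 0, 0, 0, 0, 0],
  [0, 0, 0, 0, 0, 0, 0, 1, 0, 0, 0, 0, 0, 0],
  [0, 0, 0, 0, 0, 0, 0, 0, 1, 0, 0, 0, 0, 0],
  [0, 0, 2, 0, 0, 2, 0, 0, 0, 1, 0, 0, 0, 0],
  [0, 0, 0, 1, 0, 0, 1, 0, 0, 0, 1, 0, 0, 0],
  [1, 0, 0, 0, 2, 0, 0, 0, 0, 0, 0, 1, 0, 0],
  [0, 0, 2, 0, 0, 0, 0, 0, 0, 0, 0, 0, 1, 0],
  [0, 0, 0, 1, 0, 0, 0, 0, 0, 0, 0, 0, 0, 1]]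
def tab10_1 : List (List ℕ) := [[1, 0, 0, 1, 0, 0, 0, 0, 0, 0, 0, 0, 0, 0],
  [0, 1, 0, 1, 0, 0, 0, 0, 0, 0, 0, 0, 0, 0],
  [0, 0, 1, 0, 0, 0, 0, 0, 0, 0, 0, 0, 0, 0],
  [0, 0, 0, 1, 0, 0, 0, 0, 0, 0, 0, 0, 0, 0],
  [0, 0, 0, 0, 1, 0, 0, 0, 0, 0, 0, 0, 0, 0],
  [0, 0, 0, 0, 0, 1, 0, 0, 0, 0, 0, 0, 0, 0],
  [0, 0, 0, 0, 0, 0, 1, 0, 0, 0, 0, 0, 0, 0],
  [0, 0, 1, 0, 0, 0, 0, 1, 0, 0, 0, 0, 0, 0],
  [0, 0, 0, 0, 0, 0, 0, 0, 1, 0, 0, 0, 0, 0],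
  [0, 0, 0, 0, 1, 0, 0, 0, 0, 1, 0, 0, 0, 0],
  [0, 0, 0, 0, 0, 0, 0, 0, 0, 0, 1, 0, 0, 0],
  [0, 0, 0, 0, 0, 0, 2, 0, 0, 0, 0, 1, 0, 0],
  [0, 1, 0, 2, 0, 0, 0, 0, 0, 0, 0, 0, 1, 0],
  [0, 0, 0, 0, 0, 0, 0, 0, 2, 0, 0, 0, 0, 1]]
def tab10_2 : List (List ℕ) := [[1, 0, 0, 2, 0, 0, 0, 0, 0, 0, 0, 0, 0, 0],
  [0, 1, 0, 2, 0, 0, 0, 0, 0, 0, 0, 0, 0, 0],
  [0, 0, 1, 0, 0, 0, 0, 0, 0, 0, 0, 0, 0, 0],
  [0, 0, 0, 1, 0, 0, 0, 0, 0, 0, 0, 0, 0, 0],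
  [0, 0, 0, 0, 1, 0, 0, 0, 0, 0, 0, 0, 0, 0],
  [0, 0, 0, 0, 0, 1, 0, 0, 0, 0, 0, 0, 0, 0],
  [0, 0, 0, 0, 0, 0, 1, 0, 0, 0, 0, 0, 0, 0],
  [0, 0, 2, 0, 0, 0, 0, 1, 0, 0, 0, 0, 0, 0],
  [0, 0, 0, 0, 0, 0, 0, 0, 1, 0, 0, 0, 0, 0],
  [0, 0, 0, 0, 2, 0, 0, 0, 0, 1, 0, 0, 0, 0],
  [0, 0, 0, 0, 0, 0, 0, 0, 0, 0, 1, 0, 0, 0],
  [0, 0, 0, 0, 0, 0, 1, 0, 0, 0, 0, 1, 0, 0],
  [0, 2, 0, 2, 0, 0, 0, 0, 0, 0, 0, 0, 1, 0],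
  [0, 0, 0, 0, 0, 0, 0, 0, 1, 0, 0, 0, 0, 1]]
def tab11_1 : List (List ℕ) := [[1, 0, 1, 0, 0, 0, 0, 0, 0, 0, 0, 0, 0, 0],
  [0, 1, 2, 0, 0, 0, 0, 0, 0, 0, 0, 0, 0, 0],
  [0, 0, 1, 0, 0, 0, 0, 0, 0, 0, 0, 0, 0, 0],
  [0, 0, 0, 1, 0, 0, 0, 0, 0, 0, 0, 0, 0, 0],
  [0, 0, 0, 0, 1, 0, 0, 0, 0, 0, 0, 0, 0, 0],
  [0, 0, 0, 0, 0, 1, 0, 0, 0, 0, 0, 0, 0, 0],
  [0, 0, 0, 0, 0, 0, 1, 0, 0, 0, 0, 0, 0, 0],
  [0, 0, 0, 0, 0, 0, 0, 1, 0, 0, 0, 0, 0, 0],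
  [0, 0, 0, 1, 0, 0, 0, 0, 1, 0, 0, 0, 0, 0],
  [0, 0, 0, 0, 0, 0, 0, 0, 0, 1, 0, 0, 0, 0],
  [0, 0, 0, 0, 1, 0, 0, 0, 0, 0, 1, 0, 0, 0],
  [0, 0, 0, 0, 0, 2, 0, 0, 0, 0, 0, 1, 0, 0],
  [0, 0, 0, 0, 0, 0, 0, 2, 0, 0, 0, 0, 1, 0],
  [0, 2, 2, 0, 0, 0, 0, 0, 0, 0, 0, 0, 0, 1]]
def tab11_2 : List (List ℕ) := [[1, 0, 2, 0, 0, 0, 0, 0, 0, 0, 0, 0, 0, 0],
  [0, 1, 1, 0, 0, 0, 0, 0, 0, 0, 0, 0, 0, 0],
  [0, 0, 1, 0, 0, 0, 0, 0, 0, 0, 0, 0, 0, 0],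
  [0, 0, 0, 1, 0, 0, 0, 0, 0, 0, 0, 0, 0, 0],
  [0, 0, 0, 0, 1, 0, 0, 0, 0, 0, 0, 0, 0, 0],
  [0, 0, 0, 0, 0, 1, 0, 0, 0, 0, 0, 0, 0, 0],
  [0, 0, 0, 0, 0, 0, 1, 0, 0, 0, 0, 0, 0, 0],
  [0, 0, 0, 0, 0, 0, 0, 1, 0, 0, 0, 0, 0, 0],
  [0, 0, 0, 2, 0, 0, 0, 0, 1, 0, 0, 0, 0, 0],
  [0, 0, 0, 0, 0, 0, 0, 0, 0, 1, 0, 0, 0, 0],
  [0, 0, 0, 0, 2, 0, 0, 0, 0, 0, 1, 0, 0, 0],
  [0, 0, 0, 0, 0, 1, 0, 0, 0, 0, 0, 1, 0, 0],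
  [0, 0, 0, 0, 0, 0, 0, 1, 0, 0, 0, 0, 1, 0],
  [0, 1, 2, 0, 0, 0, 0, 0, 0, 0, 0, 0, 0, 1]]

def tab1 : List (List (List ℕ)) := [tab0_1, tab1_1, tab2_1, tab3_1, tab4_1, tab5_1, tab6_1, tab7_1, tab8_1, tab9_1, tab10_1, tab11_1]

def tab2 : List (List (List ℕ)) := [tab0_2, tab1_2, tab2_2, tab3_2, tab4_2, tab5_2, tab6_2, tab7_2, tab8_2, tab9_2, tab10_2, tab11_2]

/-- the identity matrix -/
def tabI : List (List ℕ) := [[1, 0, 0, 0, 0, 0, 0, 0, 0, 0, 0, 0, 0, 0],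
  [0, 1, 0, 0, 0, 0, 0, 0, 0, 0, 0, 0, 0, 0],
  [0, 0, 1, 0, 0, 0, 0, 0, 0, 0, 0, 0, 0, 0],
  [0, 0, 0, 1, 0, 0, 0, 0, 0, 0, 0, 0, 0, 0],
  [0, 0, 0, 0, 1, 0, 0, 0, 0, 0, 0, 0, 0, 0],
  [0, 0, 0, 0, 0, 1, 0, 0, 0, 0, 0, 0, 0, 0],
  [0, 0, 0, 0, 0, 0, 1, 0, 0, 0, 0, 0, 0, 0],
  [0, 0, 0, 0, 0, 0, 0, 1, 0, 0, 0, 0, 0, 0],
  [0, 0, 0, 0, 0, 0, 0, 0, 1, 0, 0, 0, 0, 0],
  [0, 0, 0, 0, 0, 0, 0, 0, 0, 1, 0, 0, 0, 0],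
  [0, 0, 0, 0, 0, 0, 0, 0, 0, 0, 1, 0, 0, 0],
  [0, 0, 0, 0, 0, 0, 0, 0, 0, 0, 0, 1, 0, 0],
  [0, 0, 0, 0, 0, 0, 0, 0, 0, 0, 0, 0, 1, 0],
  [0, 0, 0, 0, 0, 0, 0, 0, 0, 0, 0, 0, 0, 1]]

/-- rows of the matrix `x_r(t)` -/
def tab (r : ℕ) (t : ZMod 3) : List (List ℕ) :=
  if t = 0 then tabI else if t = 1 then tab1.getD r tabI else tab2.getD r tabI

/-- dot product modulo 3 -/
def dot : List ℕ → List ℕ → ℕ
  | a :: l, b :: m => (a * b + dot l m) % 3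
  | _, _ => 0

/-- matrix times vector -/
def mvl (M : List (List ℕ)) (v : List ℕ) : List ℕ := M.map fun r => dot r v

/-- position of a basis vector -/
def pos : chevG2.Idx → ℕ
  | Sum.inl i => i.val
  | Sum.inr s => s.val + 2

/-- vector of a list -/
def toVec (l : List ℕ) : chevG2.Idx → ZMod 3 := fun i => ((l.getD (pos i) 0 : ℕ) : ZMod 3)

/-- apply a word in root elements to a vector -/
def run (w : List (ℕ × ZMod 3)) (l : List ℕ) : List ℕ :=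
  w.foldr (fun p l => mvl (tab p.1 p.2) l) l

def ent (M : List (List ℕ)) (i j : ℕ) : ZMod 3 := (((M.getD i []).getD j 0 : ℕ) : ZMod 3)

theorem ent_ll : ∀ (r : Fin 12) (t : ZMod 3) (i j : Fin 2),
    chevG2.xMat (ZMod 3) r t (Sum.inl i) (Sum.inl j) = ent (tab r t) i j := by
  decide +kernel

theorem ent_lr : ∀ (r : Fin 12) (t : ZMod 3) (i : Fin 2) (j : Fin 12),
    chevG2.xMat (ZMod 3) r t (Sum.inl i) (Sum.inr j) = ent (tab r t) i (j + 2) := by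
  decide +kernel

theorem ent_rl : ∀ (r : Fin 12) (t : ZMod 3) (i : Fin 12) (j : Fin 2),
    chevG2.xMat (ZMod 3) r t (Sum.inr i) (Sum.inl j) = ent (tab r t) (i + 2) j := by
  decide +kernel

theorem ent_rr : ∀ (r : Fin 12) (t : ZMod 3) (i : Fin 12) (j : Fin 12),
    chevG2.xMat (ZMod 3) r t (Sum.inr i) (Sum.inr j) = ent (tab r t) (i + 2) (j + 2) := by
  decide +kernel

theorem xMat_apply (r : Fin 12) (t : ZMod 3) (i j : chevG2.Idx) :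
    chevG2.xMat (ZMod 3) r t i j = ent (tab r t) (pos i) (pos j) := by
  rcases i with i | i <;> rcases j with j | j
  · exact ent_ll r t i j
  · exact ent_lr r t i j
  · exact ent_rl r t i j
  · exact ent_rr r t i j

end Cfsg.Agent.ChevalleyStructure.Ree3.G2F3
end

-- part: ChevalleyStructure/Ree3/G2Run
section
/-!
Type G2 over `ZMod 3`: `wordMat w *ᵥ toVec l = toVec (run w l)`.
-/

set_option autoImplicit false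

namespace Cfsg.Agent.ChevalleyStructure.Ree3.G2Run

open Matrix Cfsg.Lie Cfsg.Agent.ChevalleyStructure.Ree3.G2F3

theorem dot_cast : ∀ (n : ℕ) (row l : List ℕ), row.length = n → l.length = n →
    ((dot row l : ℕ) : ZMod 3) =
      ∑ j ∈ Finset.range n, ((row.getD j 0 : ℕ) : ZMod 3) * ((l.getD j 0 : ℕ) : ZMod 3)
  | 0, [], [], _, _ => by simp [dot]
  | n + 1, a :: row, b :: l, hr, hl => by
    have h1 : row.length = n := by simpa using hr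
    have h2 : l.length = n := by simpa using hl
    rw [Finset.sum_range_succ', dot, ZMod.natCast_mod, Nat.cast_add, Nat.cast_mul,
      dot_cast n row l h1 h2]
    simp [add_comm]

theorem tab_length : ∀ (r : Fin 12) (t : ZMod 3), (tab r t).length = 14 ∧
    ∀ k : Fin 14, ((tab r t).getD k []).length = 14 := by
  decide +kernel

theorem pos_lt (i : chevG2.Idx) : pos i < 14 := by
  rcases i with i | i
  · have := i.isLt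
    change i.val < 14
    change i.val < 2 at this
    omega
  · have := i.isLt
    change i.val + 2 < 14
    change i.val < 12 at this
    omega

theorem sum_idx (f : ℕ → ZMod 3) : ∑ j : chevG2.Idx, f (pos j) = ∑ j ∈ Finset.range 14, f j := by
  rw [Fintype.sum_sum_type]
  change (∑ j : Fin 2, f j.val) + (∑ j : Fin 12, f (j.val + 2)) = _
  rw [Fin.sum_univ_eq_sum_range (fun j => f j) 2,
    Fin.sum_univ_eq_sum_range (fun j => f (j + 2)) 12]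
  rw [show (14 : ℕ) = 2 + 12 from rfl, Finset.sum_range_add]
  simp only [add_comm]

theorem mvl_length (r : Fin 12) (t : ZMod 3) (l : List ℕ) : (mvl (tab r t) l).length = 14 := by
  simp [mvl, (tab_length r t).1]

theorem mulVec_toVec (r : Fin 12) (t : ZMod 3) (l : List ℕ) (hl : l.length = 14) :
    chevG2.xMat (ZMod 3) r t *ᵥ toVec l = toVec (mvl (tab r t) l) := by
  funext i
  have h14 := tab_length r t
  have hp := pos_lt i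
  have e1 : (mvl (tab r t) l).getD (pos i) 0 = dot ((tab r t).getD (pos i) []) l := by
    simp only [mvl, List.getD_eq_getElem?_getD, List.getElem?_map]
    rw [List.getElem?_eq_getElem (by rw [h14.1]; exact hp)]
    simp
  change ∑ j, chevG2.xMat (ZMod 3) r t i j * toVec l j = (((mvl (tab r t) l).getD (pos i) 0 : ℕ) : ZMod 3)
  rw [e1, dot_cast 14 _ _ (h14.2 ⟨pos i, hp⟩) hl, ← sum_idx]
  apply Finset.sum_congr rfl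
  intro j _
  rw [xMat_apply]
  rfl

theorem x_mulVec_toVec (r : ℕ) (hr : r < 12) (t : ZMod 3) (l : List ℕ) (hl : l.length = 14) :
    chevG2.x (ZMod 3) r t *ᵥ toVec l = toVec (mvl (tab r t) l) := by
  have : chevG2.x (ZMod 3) r t = chevG2.xMat (ZMod 3) ⟨r, hr⟩ t := dif_pos hr
  rw [this]
  exact mulVec_toVec ⟨r, hr⟩ t l hl

theorem run_length (w : List (ℕ × ZMod 3)) (hw : ∀ p ∈ w, p.1 < 12) (l : List ℕ)
    (hl : l.length = 14) : (run w l).length = 14 := by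
  induction w with
  | nil => exact hl
  | cons p w ih =>
    change (mvl (tab p.1 p.2) (run w l)).length = 14
    exact mvl_length ⟨p.1, hw p (by simp)⟩ p.2 _

theorem wordMat_mulVec_toVec (w : List (ℕ × ZMod 3)) (hw : ∀ p ∈ w, p.1 < 12) (l : List ℕ)
    (hl : l.length = 14) :
    chevG2.wordMat (ZMod 3) w *ᵥ toVec l = toVec (run w l) := by
  induction w with
  | nil =>
    change (1 : Matrix chevG2.Idx chevG2.Idx (ZMod 3)) *ᵥ toVec l = toVec l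
    rw [Matrix.one_mulVec]
  | cons p w ih =>
    have h1 : chevG2.wordMat (ZMod 3) (p :: w) =
        chevG2.x (ZMod 3) p.1 p.2 * chevG2.wordMat (ZMod 3) w := by
      simp only [ChevalleyDatum.wordMat, List.map_cons, List.prod_cons]
    rw [h1, ← Matrix.mulVec_mulVec, ih (fun q hq => hw q (List.mem_cons_of_mem _ hq))]
    exact x_mulVec_toVec p.1 (hw p (by simp)) p.2 _
      (run_length w (fun q hq => hw q (List.mem_cons_of_mem _ hq)) l hl)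

end Cfsg.Agent.ChevalleyStructure.Ree3.G2Run
end

-- part: ChevalleyStructure/Ree3/Packed
section
/-!
Type G2 over `ZMod 3`: fast (packed) version of `G2F3.run`.
-/

set_option autoImplicit false

namespace Cfsg.Agent.ChevalleyStructure.Ree3.Packed

open Matrix Cfsg.Lie Cfsg.Agent.ChevalleyStructure.Ree3.G2F3 Cfsg.Agent.ChevalleyStructure.Ree3.G2Run

/-- packed columns (base 64) of `x_r(1)` -/
def ctab1 : List (List ℕ) := [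
  [1, 4160, 4096, 262144, 16777216, 1073741824, 68719476736, 4398046511104, 281474976972800, 18014398509481984, 1152921504623624192, 73786976296985690112, 4722366491665738235904, 302231454903657293684802],
  [1, 524352, 4096, 262144, 16777216, 1073741824, 68719476736, 4398046515200, 281474976710656, 18014398526259200, 1152921504606846976, 73786976432277159936, 4722366482869645738114, 302231455466607247097856],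
  [16777217, 64, 4096, 262144, 16777216, 1073741824, 68719476736, 4398046511104, 281474976710656, 18014399583223808, 1152921642045800448, 73786976294871760897, 4722402511667737923584, 302233760746803946848256],
  [2147483649, 1073741888, 4096, 262144, 16777216, 1073741824, 68736253952, 4398046511104, 281543729745920, 18014398509481984, 1152921506754330626, 73823005091857170432, 4722366482869645213696, 302305259903146734387200],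
  [137438953473, 137438953536, 4096, 262144, 16777216, 1107296256, 68719476736, 4399137554432, 281474976710656, 18014535948435458, 1152921504606846976, 74939897799445053440, 4798459583648673824768, 302231454903657293676544],
  [1, 8796093022272, 4096, 270336, 16777216, 1073741824, 70866960384, 4398046511104, 290271069732992, 18014398509481984, 1170935903116328960, 73786976294838206464, 4722366482869645213696, 306953821386526938890240],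
  [1, 281474976710720, 528384, 262144, 16777216, 138512695296, 68719476736, 567347999932480, 281474976710656, 1170935903116328960, 1152921504606846976, 73786976294838206464, 306953821386526938890240, 302231454903657293676544],
  [18014398509481985, 18014398509482048, 4096, 8798274322432, 2164260864, 1073741824, 36028865738440705, 4398046511104, 4798459583648673824768, 18014398509481984, 74939897799445053440, 73786976294838206464, 4722366482869645213696, 302231454903657293676544],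
  [1152921504606846977, 2305843009213694016, 281543729745920, 262144, 68736253952, 2305843010287435777, 68719476736, 604610519793099329241088, 281474976710656, 147591966988185894912, 1152921504606846976, 73786976294838206464, 4722366482869645213696, 302231454903657293676544],
  [147573952589676412929, 64, 4722402511667737923584, 604464062728887913938944, 147573952589693190146, 18014399583223808, 2305843077933170688, 4398046511104, 281474976710656, 18014398509481984, 1152921504606846976, 73786976294838206464, 4722366482869645213696, 302231454903657293676544],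
  [1, 4722366482869645213760, 4398046515200, 9444732965739290689601, 18014398526259200, 1073741824, 147573952658395889664, 4398046511104, 604462910088789564063744, 18014398509481984, 1152921504606846976, 73786976294838206464, 4722366482869645213696, 302231454903657293676544],
  [1, 604462909807314587353152, 604462909807314587357313, 281474976972800, 1152921504623624192, 147573952590750154752, 68719476736, 9444732970137336938496, 281474976710656, 18014398509481984, 1152921504606846976, 73786976294838206464, 4722366482869645213696, 302231454903657293676544]]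

/-- packed columns (base 64) of `x_r(2)` -/
def ctab2 : List (List ℕ) := [
  [1, 8256, 4096, 262144, 16777216, 1073741824, 68719476736, 4398046511104, 281474977234944, 18014398509481984, 1152921504640401408, 73786976295911948288, 4722366487267691724800, 302231454903657293684865],
  [1, 262208, 4096, 262144, 16777216, 1073741824, 68719476736, 4398046519296, 281474976710656, 18014398543036416, 1152921504606846976, 73786976363557683200, 4722366482869645738049, 302231455185132270387200],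
  [33554433, 64, 4096, 262144, 16777216, 1073741824, 68719476736, 4398046511104, 281474976710656, 18014400656965632, 1152921573326323712, 73786976294871760898, 4722384497269228445696, 302232607825299339739136],
  [1073741825, 2147483712, 4096, 262144, 16777216, 1073741824, 68753031168, 4398046511104, 281612449226752, 18014398509481984, 1152921506754330625, 73804990693347688448, 4722366482869645213696, 302379046875043526082560],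
  [68719476737, 68719476800, 4096, 262144, 16777216, 1090519040, 68719476736, 4400211034112, 281474976710656, 18014535948435457, 1152921504606846976, 76092819304051900416, 4872246841418488741888, 302231454903657293676544],
  [1, 4398046511168, 4096, 266240, 16777216, 1073741824, 69793218560, 4398046511104, 290271069732928, 18014398509481984, 1188950301625810944, 73786976294838206464, 4722366482869645213696, 311676187869396584103936],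
  [1, 562949953421376, 266240, 262144, 16777216, 69793218560, 68719476736, 567347999932544, 281474976710656, 2323857407723175936, 1152921504606846976, 73786976294838206464, 609185276290184232566784, 302231454903657293676544],
  [36028797018963969, 36028797018964032, 4096, 4400211034112, 1090519040, 1073741824, 36028865738440706, 4398046511104, 9519673145013712191488, 18014398509481984, 148726874094283259904, 73786976294838206464, 4722366482869645213696, 302231454903657293676544],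
  [2305843009213693953, 1152921504606847040, 563018689679360, 262144, 137455730688, 2305843010287435778, 68719476736, 302379046875043526082560, 281474976710656, 73804990693347688448, 1152921504606846976, 73786976294838206464, 4722366482869645213696, 302231454903657293676544],
  [73786976294838206465, 64, 9444768994538456879104, 302232607825299339739136, 147573952589693190145, 36028798092705792, 1152921573326323712, 4398046511104, 281474976710656, 18014398509481984, 1152921504606846976, 73786976294838206464, 4722366482869645213696, 302231454903657293676544],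
  [1, 9444732965739290427456, 8796093026304, 9444732965739290689666, 36028797035741184, 1073741824, 73786976363557683200, 4398046511104, 302231455185132270387200, 18014398509481984, 1152921504606846976, 73786976294838206464, 4722366482869645213696, 302231454903657293676544],
  [1, 302231454903657293676608, 604462909807314587357250, 562949953683456, 2305843009230471168, 73786976295911948288, 68719476736, 4722366487267691724800, 281474976710656, 18014398509481984, 1152921504606846976, 73786976294838206464, 4722366482869645213696, 302231454903657293676544]]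

/-- packed columns of the identity -/
def ctabI : List ℕ := [1, 64, 4096, 262144, 16777216, 1073741824, 68719476736, 4398046511104, 281474976710656, 18014398509481984, 1152921504606846976, 73786976294838206464, 4722366482869645213696, 302231454903657293676544]

/-- packed columns of `x_r(t)` -/
def ctab (r : ℕ) (t : ZMod 3) : List ℕ :=
  if t = 0 then ctabI else if t = 1 then ctab1.getD r ctabI else ctab2.getD r ctabI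

/-- linear combination of packed columns -/
def comb : List ℕ → List ℕ → ℕ
  | [], _ => 0
  | c :: cs, v => match v with
    | [] => 0
    | a :: vs => Nat.add (Nat.mul a c) (comb cs vs)

/-- unpack and reduce modulo 3 -/
def unp : ℕ → ℕ → List ℕ
  | 0, _ => []
  | n + 1, s => Nat.mod (Nat.mod s 64) 3 :: unp n (Nat.div s 64)

/-- fast matrix times vector -/
def mvc (C : List ℕ) (v : List ℕ) : List ℕ := unp 14 (comb C v)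

/-- fast application of a word -/
def runc (w : List (ℕ × ZMod 3)) (l : List ℕ) : List ℕ :=
  match w with
  | [] => l
  | p :: w => mvc (ctab p.1 p.2) (runc w l)

/-- pack a column of a matrix given by rows -/
def packCol : List (List ℕ) → ℕ → ℕ
  | [], _ => 0
  | r :: rs, j => r.getD j 0 + 64 * packCol rs j

theorem ctab_eq : ∀ (r : Fin 12) (t : ZMod 3), (ctab r t).length = 14 ∧
    ∀ j : Fin 14, (ctab r t).getD j 0 = packCol (tab r t) j := by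
  decide +kernel

theorem tab_le : ∀ (r : Fin 12) (t : ZMod 3) (i j : Fin 14), ((tab r t).getD i []).getD j 0 < 3 := by
  decide +kernel

theorem comb_eq : ∀ (n : ℕ) (C v : List ℕ), C.length = n → v.length = n →
    comb C v = ∑ j ∈ Finset.range n, v.getD j 0 * C.getD j 0
  | 0, [], [], _, _ => by simp [comb]
  | n + 1, a :: C, b :: v, hC, hv => by
    have h1 : C.length = n := by simpa using hC
    have h2 : v.length = n := by simpa using hv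
    rw [Finset.sum_range_succ', comb]
    change Nat.add (Nat.mul b a) (comb C v) = _
    rw [comb_eq n C v h1 h2]
    change b * a + _ = _
    simp [add_comm]

theorem packCol_eq : ∀ (n : ℕ) (T : List (List ℕ)) (j : ℕ), T.length = n →
    packCol T j = ∑ i ∈ Finset.range n, (T.getD i []).getD j 0 * 64 ^ i
  | 0, [], j, _ => by simp [packCol]
  | n + 1, r :: T, j, hT => by
    have h1 : T.length = n := by simpa using hT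
    rw [Finset.sum_range_succ', packCol, packCol_eq n T j h1, Finset.mul_sum]
    simp only [List.getD_cons_succ, List.getD_cons_zero, pow_zero, mul_one]
    rw [add_comm]
    congr 1
    apply Finset.sum_congr rfl
    intro i _
    rw [pow_succ]; ring

theorem unp_eq : ∀ (n : ℕ) (g : ℕ → ℕ), (∀ i < n, g i < 64) →
    unp n (∑ i ∈ Finset.range n, g i * 64 ^ i) = (List.range n).map fun i => g i % 3
  | 0, g, _ => by simp [unp]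
  | n + 1, g, hg => by
    have h0 := hg 0 (Nat.succ_pos n)
    have e : ∑ i ∈ Finset.range (n + 1), g i * 64 ^ i =
        g 0 + 64 * ∑ i ∈ Finset.range n, g (i + 1) * 64 ^ i := by
      rw [Finset.sum_range_succ', Finset.mul_sum, add_comm]
      congr 1
      · simp
      · apply Finset.sum_congr rfl
        intro i _
        rw [pow_succ]; ring
    rw [e, unp]
    change (g 0 + 64 * _) % 64 % 3 :: unp n ((g 0 + 64 * _) / 64) = _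
    rw [Nat.add_mul_mod_self_left, Nat.mod_eq_of_lt h0, Nat.add_mul_div_left _ _ (by norm_num),
      Nat.div_eq_of_lt h0, zero_add, unp_eq n (fun i => g (i + 1)) (fun i hi => hg (i + 1) (by omega)),
      List.range_succ_eq_map]
    simp

theorem dot_eq : ∀ (n : ℕ) (row l : List ℕ), row.length = n → l.length = n →
    dot row l = (∑ j ∈ Finset.range n, row.getD j 0 * l.getD j 0) % 3
  | 0, [], [], _, _ => by simp [dot]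
  | n + 1, a :: row, b :: l, hr, hl => by
    have h1 : row.length = n := by simpa using hr
    have h2 : l.length = n := by simpa using hl
    rw [Finset.sum_range_succ', dot, dot_eq n row l h1 h2]
    simp [add_comm]

/-- entries below 3 -/
def Small (l : List ℕ) : Prop := l.length = 14 ∧ ∀ j, l.getD j 0 < 3

theorem mvc_eq (r : Fin 12) (t : ZMod 3) (l : List ℕ) (hl : Small l) :
    mvc (ctab r t) l = mvl (tab r t) l := by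
  obtain ⟨hC, hC'⟩ := ctab_eq r t
  obtain ⟨hT, hT'⟩ := tab_length r t
  have e1 : comb (ctab r t) l = ∑ i ∈ Finset.range 14,
      (∑ j ∈ Finset.range 14, ((tab r t).getD i []).getD j 0 * l.getD j 0) * 64 ^ i := by
    rw [comb_eq 14 _ _ hC hl.1]
    have : ∀ j ∈ Finset.range 14, l.getD j 0 * (ctab r t).getD j 0 =
        ∑ i ∈ Finset.range 14, ((tab r t).getD i []).getD j 0 * l.getD j 0 * 64 ^ i := by
      intro j hj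
      rw [Finset.mem_range] at hj
      rw [hC' ⟨j, hj⟩, packCol_eq 14 _ _ hT, Finset.mul_sum]
      apply Finset.sum_congr rfl
      intro i _
      simp only
      ring
    rw [Finset.sum_congr rfl this, Finset.sum_comm]
    apply Finset.sum_congr rfl
    intro i _
    rw [Finset.sum_mul]
  rw [mvc, e1, unp_eq 14 _ ?_]
  · apply List.ext_getElem
    · simp [mvl, hT]
    · intro i h1 h2
      have hi : i < 14 := by simpa using h1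
      simp only [mvl, List.getElem_map, List.getElem_range]
      have e2 : (tab r t)[i]'(by rw [hT]; exact hi) = (tab r t).getD i [] := by
        rw [List.getD_eq_getElem?_getD, List.getElem?_eq_getElem (by rw [hT]; exact hi)]
        rfl
      rw [e2, dot_eq 14 _ _ (hT' ⟨i, hi⟩) hl.1]
  · intro i hi
    have hle : ∀ j ∈ Finset.range 14, ((tab r t).getD i []).getD j 0 * l.getD j 0 ≤ 4 := by
      intro j hj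
      rw [Finset.mem_range] at hj
      have h1 := tab_le r t ⟨i, hi⟩ ⟨j, hj⟩
      have h2 := hl.2 j
      simp only at h1
      calc ((tab r t).getD i []).getD j 0 * l.getD j 0 ≤ 2 * 2 :=
            Nat.mul_le_mul (by omega) (by omega)
        _ = 4 := rfl
    calc _ ≤ ∑ _j ∈ Finset.range 14, 4 := Finset.sum_le_sum hle
      _ < 64 := by decide

theorem mvl_small (r : Fin 12) (t : ZMod 3) (l : List ℕ) (hl : Small l) :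
    Small (mvl (tab r t) l) := by
  refine ⟨mvl_length r t l, fun j => ?_⟩
  simp only [mvl, List.getD_eq_getElem?_getD, List.getElem?_map]
  rcases h : (tab r t)[j]? with _ | row
  · simp
  · simp only [Option.map_some, Option.getD_some]
    have hmem : row ∈ tab r t := List.mem_of_getElem? h
    rcases row with _ | ⟨a, row⟩
    · simp [dot]
    · rcases l with _ | ⟨b, l⟩
      · simp [dot]
      · simp only [dot]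
        exact Nat.mod_lt _ (by norm_num)

theorem run_small (w : List (ℕ × ZMod 3)) (hw : ∀ p ∈ w, p.1 < 12) (l : List ℕ)
    (hl : Small l) : Small (run w l) := by
  induction w with
  | nil => exact hl
  | cons p w ih =>
    change Small (mvl (tab p.1 p.2) (run w l))
    exact mvl_small ⟨p.1, hw p (by simp)⟩ p.2 _
      (ih (fun q hq => hw q (List.mem_cons_of_mem _ hq)))

theorem runc_eq (w : List (ℕ × ZMod 3)) (hw : ∀ p ∈ w, p.1 < 12) (l : List ℕ)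
    (hl : Small l) : runc w l = run w l := by
  induction w with
  | nil => rfl
  | cons p w ih =>
    have hw' := fun q hq => hw q (List.mem_cons_of_mem _ hq)
    change mvc (ctab p.1 p.2) (runc w l) = mvl (tab p.1 p.2) (run w l)
    rw [ih hw']
    exact mvc_eq ⟨p.1, hw p (by simp)⟩ p.2 _ (run_small w hw' l hl)

theorem wordMat_mulVec_runc (w : List (ℕ × ZMod 3)) (hw : ∀ p ∈ w, p.1 < 12) (l : List ℕ)
    (hl : Small l) :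
    chevG2.wordMat (ZMod 3) w *ᵥ toVec l = toVec (runc w l) := by
  rw [runc_eq w hw l hl]
  exact wordMat_mulVec_toVec w hw l hl.1

end Cfsg.Agent.ChevalleyStructure.Ree3.Packed
end
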